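import Groth.Prelude.Def_RDer
import Mathlib

/-!
# The first edge map of a composite is bijective on objects acyclic for the first functor
-/

set_option autoImplicit false
set_option backward.isDefEq.respectTransparency false
set_option backward.isDefEq.respectTransparency.types false
set_option linter.style.haveILetI false

universe v₁ v₂ v₃ u₁ u₂ u₃

open CategoryTheory CategoryTheory.Limits HomologicalComplex

noncomputable section

namespace Groth.Agent.EdgeAcyc

variable {A : Type u₁} [Category.{v₁} A] [Abelian A] [HasInjectiveResolutions A]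
  {B : Type u₂} [Category.{v₂} B] [Abelian B] [HasInjectiveResolutions B]
  {C : Type u₃} [Category.{v₃} C] [Abelian C]
  (Φ : A ⥤ B) [Φ.Additive] [Φ.PreservesInjectiveObjects] [PreservesFiniteLimits Φ]

theorem quasiIso_mapAug (X : A) (R : InjectiveResolution X)
    (h : ∀ q : ℕ, 0 < q → IsZero ((Φ.rightDerived q).obj X)) :
    QuasiIso (RDer.mapAug Φ R.ι) := by
  refine ⟨fun n => ?_⟩
  rcases n with _ | n
  · rw [CochainComplex.quasiIsoAt₀_iff, ShortComplex.quasiIso_iff_of_zeros _ (by simp) (by simp) (by simp)]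
    have e : ((HomologicalComplex.shortComplexFunctor' B (ComplexShape.up ℕ) 0 0 1).map (RDer.mapAug Φ R.ι)).τ₂ =
        Φ.map (R.ι.f 0) := by
      simp [RDer.mapAug, CochainComplex.single₀]
      exact Category.id_comp _
    haveI : Mono (Φ.map (R.ι.f 0)) := inferInstance
    have w : R.ι.f 0 ≫ R.cocomplex.d 0 1 = 0 := R.ι_f_zero_comp_complex_d
    have hk : IsLimit (KernelFork.ofι (R.ι.f 0) w) := R.exact₀.fIsKernel
    refine ⟨?_, e ▸ inferInstanceAs (Mono (Φ.map (R.ι.f 0)))⟩
    refine (ShortComplex.exact_iff_of_iso ?_).1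
      (ShortComplex.exact_of_f_is_kernel ((ShortComplex.mk _ _ w).map Φ) (KernelFork.mapIsLimit _ hk Φ))
    exact ShortComplex.isoMk (Iso.refl _) (Iso.refl _) (Iso.refl _) (by simpa using e) (by simp)
  · rw [quasiIsoAt_iff_exactAt _ _ (CochainComplex.exactAt_succ_single_obj _ _), exactAt_iff_isZero_homology]
    exact (h (n + 1) n.succ_pos).of_iso (R.isoRightDerivedObj Φ (n + 1)).symm

/-- the image of an injective resolution of an acyclic object -/
def mapResolution (X : A) (R : InjectiveResolution X) (h : ∀ q : ℕ, 0 < q → IsZero ((Φ.rightDerived q).obj X)) :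
    InjectiveResolution (Φ.obj X) where
  cocomplex := (Φ.mapHomologicalComplex _).obj R.cocomplex
  injective n := Φ.injective_obj (R.cocomplex.X n)
  ι := RDer.mapAug Φ R.ι
  quasiIso := quasiIso_mapAug Φ X R h

/-- **the first edge map is bijective on acyclic objects** -/
theorem isIso_edgeIn (Ψ : B ⥤ C) [Ψ.Additive] (q : ℕ) (X : A)
    (h : ∀ q : ℕ, 0 < q → IsZero ((Φ.rightDerived q).obj X)) : IsIso (RDer.edgeIn Φ Ψ q X) := by
  let R := injectiveResolution X
  let J := injectiveResolution (Φ.obj X)
  let I' := mapResolution Φ X R h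
  let ψ : J.cocomplex ⟶ I'.cocomplex :=
    RDer.descToInjectives (𝟙 (Φ.obj X)) J.cocomplex J.ι ((Φ.mapHomologicalComplex _).obj R.cocomplex)
      (RDer.mapAug Φ R.ι)
  have hψ : J.ι ≫ ψ = (CochainComplex.single₀ B).map (𝟙 _) ≫ I'.ι := by
    refine HomologicalComplex.from_single_hom_ext ?_
    simp only [HomologicalComplex.comp_f]
    refine (RDer.ι_descToInjectives_f_zero _ _ _ _ _).trans ?_
    simp [I', mapResolution]
  have ho : Homotopy ψ (J.homotopyEquiv I').hom :=
    InjectiveResolution.descHomotopy (𝟙 _) _ _ hψ (InjectiveResolution.desc_commutes _ _ _)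
  have he : (HomologicalComplex.homologyFunctor C _ q).map ((Ψ.mapHomologicalComplex _).map ψ) =
      ((Ψ.mapHomotopyEquiv (J.homotopyEquiv I')).toHomologyIso q).hom :=
    (Ψ.mapHomotopy ho).homologyMap_eq q
  haveI : IsIso ((HomologicalComplex.homologyFunctor C _ q).map ((Ψ.mapHomologicalComplex _).map ψ)) := by
    rw [he]; infer_instance
  dsimp only [RDer.edgeIn]
  exact inferInstanceAs (IsIso (_ ≫ _ ≫ _))

end Groth.Agent.EdgeAcyc
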